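/-
The universal algebraic identity behind Adams–Riemann–Roch for an elementary extension:
for units `u_0, …, u_r` and the functional `X^n ↦ h_n(u)` on polynomials modulo `∏ (X - u_l)`.
-/
import Mathlib.RingTheory.AdjoinRoot
import Mathlib.RingTheory.Localization.FractionRing
import Mathlib.RingTheory.PowerSeries.Inverse
import Mathlib.RingTheory.MvPolynomial.Basic
import Mathlib.RingTheory.Polynomial.Vieta
import Mathlib.RingTheory.Coprime.Lemmas
import Mathlib.RingTheory.MvPolynomial.Symmetric.Defs
import Mathlib.LinearAlgebra.Lagrange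
import Mathlib.Algebra.MvPolynomial.CommRing
import Mathlib.Algebra.Polynomial.Degree.Operations
import Mathlib.RingTheory.Nilpotent.Lemmas
import Mathlib.RingTheory.Ideal.Quotient.Nilpotent
import Mathlib.RingTheory.TensorProduct.Maps
import Mathlib.RingTheory.Flat.Stability
import Mathlib.RingTheory.Flat.Localization
import Mathlib.Algebra.Ring.GeomSum
import Mathlib.Tactic.LinearCombination
import Mathlib.Tactic.FieldSimp

set_option autoImplicit false

universe u v

namespace Groth.L13.ElemExt.RR

open Finset Polynomial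

variable {B : Type u} [CommRing B] {C : Type v} [CommRing C] {m r : ℕ}

/-- The geometric series `∑ a^n X^n`. -/
noncomputable def geom (a : B) : PowerSeries B := PowerSeries.mk fun n => a ^ n

theorem one_sub_mul_geom (a : B) : (1 - PowerSeries.C a * PowerSeries.X) * geom a = 1 := by
  ext n
  rw [sub_mul, one_mul, mul_assoc, map_sub, PowerSeries.coeff_C_mul]
  rcases n with - | n
  · simp [geom]
  · rw [PowerSeries.coeff_succ_X_mul]
    simp [geom, pow_succ, mul_comm, PowerSeries.coeff_one]

/-- The complete homogeneous symmetric function `h_n(u)`. -/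
noncomputable def hh (u : Fin m → B) (n : ℕ) : B := PowerSeries.coeff n (∏ l, geom (u l))

theorem hh_map (φ : B →+* C) (u : Fin m → B) (n : ℕ) : φ (hh u n) = hh (fun l => φ (u l)) n := by
  unfold hh
  rw [← PowerSeries.coeff_map, map_prod]
  congr 1
  refine prod_congr rfl fun l _ => ?_
  ext k
  simp [geom]

/-- `∏ (X - u_l)`. -/
noncomputable def pPoly (u : Fin m → B) : B[X] := ∏ l, (X - Polynomial.C (u l))

theorem monic_pPoly (u : Fin m → B) : (pPoly u).Monic :=
  monic_prod_of_monic _ _ fun l _ => monic_X_sub_C (u l)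

theorem pPoly_map (φ : B →+* C) (u : Fin m → B) : (pPoly u).map φ = pPoly fun l => φ (u l) := by
  simp [pPoly, Polynomial.map_prod]

theorem eval_pPoly (u : Fin m → B) (k : Fin m) : (pPoly u).eval (u k) = 0 := by
  rw [pPoly, eval_prod]
  exact prod_eq_zero (mem_univ k) (by simp)

/-- The functional `X^n ↦ h_n(u)`. -/
noncomputable def phi (u : Fin m → B) : B[X] →ₗ[B] B :=
  Polynomial.lsum fun n => LinearMap.toSpanSingleton B B (hh u n)

theorem phi_monomial (u : Fin m → B) (n : ℕ) (a : B) : phi u (monomial n a) = a * hh u n := by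
  simp [phi, Polynomial.lsum_apply, Polynomial.sum_monomial_index]

theorem phi_map (φ : B →+* C) (u : Fin m → B) (g : B[X]) :
    φ (phi u g) = phi (fun l => φ (u l)) (g.map φ) := by
  induction g using Polynomial.induction_on' with
  | add p q hp hq => rw [map_add, map_add, Polynomial.map_add, map_add, hp, hq]
  | monomial n a => rw [phi_monomial, Polynomial.map_monomial, phi_monomial, map_mul, hh_map]

/-- The Lagrange coefficient. -/
noncomputable def lag {F : Type u} [Field F] (u : Fin (r + 1) → F) (k : Fin (r + 1)) : F :=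
  u k ^ r / ∏ l ∈ univ.erase k, (u k - u l)

theorem sum_lag_mul {F : Type u} [Field F] {u : Fin (r + 1) → F} (hu : Function.Injective u)
    (h0 : ∀ k, u k ≠ 0) :
    ∑ k, Polynomial.C (lag u k) * ∏ l ∈ univ.erase k, (1 - Polynomial.C (u l) * X) = 1 := by
  refine Polynomial.eq_of_degrees_lt_of_eval_index_eq (s := univ) (v := fun k => (u k)⁻¹)
    (fun a _ b _ h => hu (inv_injective h)) ?_ ?_ fun k _ => ?_
  · refine lt_of_le_of_lt (degree_sum_le _ _) ?_
    rw [card_univ, Fintype.card_fin]
    refine (Finset.sup_lt_iff (WithBot.bot_lt_coe _)).2 fun k _ => ?_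
    rw [← Polynomial.smul_eq_C_mul]
    refine lt_of_le_of_lt (degree_smul_le _ _) ?_
    refine lt_of_le_of_lt (degree_prod_le _ _) ?_
    refine lt_of_le_of_lt (sum_le_sum (g := fun _ => ((1 : ℕ) : WithBot ℕ)) fun l _ => ?_) ?_
    · refine le_trans (degree_sub_le _ _) (max_le (by rw [degree_one]; decide) ?_)
      exact degree_C_mul_X_le _
    · rw [sum_const, card_erase_of_mem (mem_univ k), card_univ, Fintype.card_fin, nsmul_eq_mul,
        Nat.cast_one, mul_one]
      exact Nat.cast_lt.2 (by omega)
  · rw [degree_one, card_univ, Fintype.card_fin]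
    exact Nat.cast_lt (α := WithBot ℕ).2 (Nat.succ_pos r)
  · simp only [eval_finsetSum, eval_mul, eval_C, eval_prod, eval_sub, eval_one, eval_X]
    rw [sum_eq_single_of_mem k (mem_univ k) fun i _ hi => by
      rw [prod_eq_zero (mem_erase.2 ⟨hi.symm, mem_univ k⟩) (by rw [mul_inv_cancel₀ (h0 k), sub_self]),
        mul_zero]]
    have e : ∀ l ∈ univ.erase k, 1 - u l * (u k)⁻¹ = (u k - u l) * (u k)⁻¹ := fun l _ => by
      rw [sub_mul, mul_inv_cancel₀ (h0 k)]
    rw [prod_congr rfl e, prod_mul_distrib, prod_const, card_erase_of_mem (mem_univ k), card_univ,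
      Fintype.card_fin, Nat.add_sub_cancel, lag]
    have hne : ∏ l ∈ univ.erase k, (u k - u l) ≠ 0 :=
      prod_ne_zero_iff.2 fun l hl => sub_ne_zero.2 fun h => (mem_erase.1 hl).1 (hu h).symm
    rw [div_mul_eq_mul_div, mul_comm (∏ l ∈ univ.erase k, (u k - u l)), ← mul_assoc, inv_pow,
      mul_inv_cancel₀ (pow_ne_zero r (h0 k)), one_mul, div_self hne]

/-- Partial fractions. -/
theorem hh_lagrange {F : Type u} [Field F] {u : Fin (r + 1) → F} (hu : Function.Injective u)
    (h0 : ∀ k, u k ≠ 0) (n : ℕ) : hh u n = ∑ k, lag u k * u k ^ n := by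
  have h := congrArg (fun p : F[X] => (p : PowerSeries F) * ∏ l, geom (u l)) (sum_lag_mul hu h0)
  have e : ∀ k, (∏ l ∈ univ.erase k, (1 - PowerSeries.C (u l) * PowerSeries.X)) * ∏ l, geom (u l) =
      geom (u k) := fun k => by
    rw [← mul_prod_erase univ (fun l => geom (u l)) (mem_univ k), mul_left_comm, ← prod_mul_distrib,
      prod_eq_one fun l _ => one_sub_mul_geom (u l), mul_one]
  simp only [← Polynomial.coeToPowerSeries.ringHom_apply, map_sum, map_mul, map_prod, map_sub,
    map_one, sum_mul, mul_assoc] at h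
  simp only [Polynomial.coeToPowerSeries.ringHom_apply, Polynomial.coe_C, Polynomial.coe_X, e,
    one_mul] at h
  rw [hh, ← h, map_sum]
  exact sum_congr rfl fun k _ => by rw [PowerSeries.coeff_C_mul, geom, PowerSeries.coeff_mk]

theorem phi_lagrange {F : Type u} [Field F] {u : Fin (r + 1) → F} (hu : Function.Injective u)
    (h0 : ∀ k, u k ≠ 0) (g : F[X]) : phi u g = ∑ k, lag u k * g.eval (u k) := by
  induction g using Polynomial.induction_on' with
  | add p q hp hq => simp only [map_add, hp, hq, eval_add, mul_add, sum_add_distrib]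
  | monomial n a =>
    rw [phi_monomial, hh_lagrange hu h0, mul_sum]
    exact sum_congr rfl fun k _ => by rw [eval_monomial]; ring

section Universal

variable (r)

/-- The universal polynomial ring. -/
abbrev PR : Type := MvPolynomial (Fin (r + 1)) ℤ

/-- The universal variables in a field. -/
noncomputable def uF (k : Fin (r + 1)) : FractionRing (PR r) := algebraMap _ _ (MvPolynomial.X k : PR r)

variable {r}

theorem uF_injective : Function.Injective (uF r) :=
  (IsFractionRing.injective (PR r) (FractionRing (PR r))).comp (MvPolynomial.X_injective)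

theorem uF_ne_zero (k : Fin (r + 1)) : uF r k ≠ 0 := by
  rw [uF, Ne, map_eq_zero_iff _ (IsFractionRing.injective (PR r) (FractionRing (PR r)))]
  exact MvPolynomial.X_ne_zero k

/-- `φ_u` kills multiples of `∏ (X - u_l)`. -/
theorem phi_mul_pPoly (u : Fin (r + 1) → B) (g : B[X]) : phi u (g * pPoly u) = 0 := by
  induction g using Polynomial.induction_on' with
  | add p q hp hq => rw [add_mul, map_add, hp, hq, add_zero]
  | monomial n a =>
    have key : phi (MvPolynomial.X : Fin (r + 1) → PR r) (X ^ n * pPoly MvPolynomial.X) = 0 := by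
      apply IsFractionRing.injective (PR r) (FractionRing (PR r))
      rw [phi_map, map_zero, Polynomial.map_mul, Polynomial.map_pow, map_X, pPoly_map]
      change phi (uF r) (X ^ n * pPoly (uF r)) = 0
      rw [phi_lagrange uF_injective uF_ne_zero]
      exact sum_eq_zero fun k _ => by rw [eval_mul, eval_pPoly, mul_zero, mul_zero]
    have := congrArg (MvPolynomial.eval₂Hom (Int.castRingHom B) u) key
    rw [phi_map, map_zero, Polynomial.map_mul, Polynomial.map_pow, map_X, pPoly_map] at this
    simp only [MvPolynomial.eval₂Hom_X'] at this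
    rw [← Polynomial.C_mul_X_pow_eq_monomial, mul_assoc, ← Polynomial.smul_eq_C_mul, map_smul, this,
      smul_zero]

end Universal

/-- `∏_l (∑_{a<j} u_l^a X^{j-1-a})`. -/
noncomputable def thetaPoly (u : Fin m → B) (j : ℕ) : B[X] :=
  ∏ l, ∑ a ∈ range j, Polynomial.C (u l) ^ a * X ^ (j - 1 - a)

theorem thetaPoly_map (φ : B →+* C) (u : Fin m → B) (j : ℕ) :
    (thetaPoly u j).map φ = thetaPoly (fun l => φ (u l)) j := by
  simp [thetaPoly, Polynomial.map_prod, Polynomial.map_sum]

theorem eval_thetaPoly (u : Fin m → B) (j : ℕ) (x : B) :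
    (thetaPoly u j).eval x = ∏ l, ∑ a ∈ range j, u l ^ a * x ^ (j - 1 - a) := by
  simp [thetaPoly, eval_prod, eval_finsetSum]

theorem exists_inverse {u : Fin m → B} {j : ℕ}
    (hnum : ∀ k l, IsUnit (∑ a ∈ range j, u l ^ a * u k ^ (j - 1 - a))) :
    ∃ W Qp : B[X], W * thetaPoly u j + Qp * pPoly u = 1 := by
  have : IsCoprime (thetaPoly u j) (pPoly u) := by
    refine IsCoprime.prod_right fun k _ => ?_
    have he : IsUnit ((thetaPoly u j).eval (u k)) := by
      rw [eval_thetaPoly]; exact IsUnit.prod_iff.2 fun l _ => hnum k l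
    obtain ⟨b, hb⟩ := isUnit_iff_exists_inv.1 he
    obtain ⟨q, hq⟩ := X_sub_C_dvd_sub_C_eval (p := thetaPoly u j) (a := u k)
    refine ⟨Polynomial.C b, -(Polynomial.C b * q), ?_⟩
    have hb' : Polynomial.C ((thetaPoly u j).eval (u k)) * Polynomial.C b = (1 : B[X]) := by
      rw [← map_mul, hb, map_one]
    linear_combination Polynomial.C b * hq + hb'
  exact this

theorem identity_field {F : Type u} [Field F] {u : Fin (r + 1) → F} {j : ℕ} (hj : (j : F) ≠ 0)
    (h0 : ∀ k, u k ≠ 0) (hu : Function.Injective u) (huj : Function.Injective fun k => u k ^ j)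
    {W Qp : F[X]} (hW : W * thetaPoly u j + Qp * pPoly u = 1) (i : ℕ) :
    phi u ((j : F[X]) * W * X ^ ((r + 1) * (j - 1)) * X ^ (i * j)) =
      hh (fun k => u k ^ j) i := by
  rw [phi_lagrange hu h0, hh_lagrange huj fun k => pow_ne_zero j (h0 k)]
  refine sum_congr rfl fun k _ => ?_
  have hWk : W.eval (u k) * (thetaPoly u j).eval (u k) = 1 := by
    have := congrArg (Polynomial.eval (u k)) hW
    rwa [eval_add, eval_mul, eval_mul, eval_pPoly, mul_zero, add_zero, eval_one] at this
  have hjk : (∑ a ∈ range j, u k ^ a * u k ^ (j - 1 - a)) = (j : F) * u k ^ (j - 1) := by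
    rw [sum_congr rfl fun a ha => by
      rw [← pow_add, Nat.add_sub_cancel' (by have := mem_range.1 ha; omega)],
      sum_const, card_range, nsmul_eq_mul]
  have hgeom : ∀ l ∈ univ.erase k,
      (∑ a ∈ range j, u l ^ a * u k ^ (j - 1 - a)) * (u k - u l) = u k ^ j - u l ^ j := fun l _ => by
    linear_combination -(geom_sum₂_mul (u l) (u k) j)
  set N := ∏ l ∈ univ.erase k, ∑ a ∈ range j, u l ^ a * u k ^ (j - 1 - a)
  set D := ∏ l ∈ univ.erase k, (u k - u l)
  have hDj : ∏ l ∈ univ.erase k, (u k ^ j - u l ^ j) = N * D := by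
    rw [← prod_mul_distrib]; exact prod_congr rfl fun l hl => (hgeom l hl).symm
  have hth : (thetaPoly u j).eval (u k) = (j : F) * u k ^ (j - 1) * N := by
    rw [eval_thetaPoly, ← mul_prod_erase univ _ (mem_univ k), hjk]
  have hne : N * D ≠ 0 := by
    rw [← hDj]
    exact prod_ne_zero_iff.2 fun l hl => sub_ne_zero.2 fun h => (mem_erase.1 hl).1 (huj h).symm
  obtain ⟨hN, hD⟩ := mul_ne_zero_iff.1 hne
  rw [hth] at hWk
  simp only [eval_mul, eval_natCast, eval_pow, eval_X, lag]
  rw [hDj, ← pow_mul, ← pow_mul, mul_comm j i]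
  have hexp : u k ^ ((r + 1) * (j - 1)) * u k ^ r = u k ^ (j * r) * u k ^ (j - 1) := by
    rw [← pow_add, ← pow_add]
    congr 1
    obtain ⟨j', rfl⟩ : ∃ j', j = j' + 1 := Nat.exists_eq_succ_of_ne_zero (by rintro rfl; simp at hj)
    simp only [Nat.add_sub_cancel]
    ring
  rw [div_mul_eq_mul_div, div_mul_eq_mul_div, div_eq_div_iff hD hne]
  linear_combination (u k ^ (i * j) * (j : F) * W.eval (u k) * N * D) * hexp +
    (u k ^ (i * j) * u k ^ (j * r) * D) * hWk

/-- The identity over any ring. -/
theorem identity {u : Fin (r + 1) → B} {j : ℕ} (hj : IsUnit (j : B)) (hj1 : 1 ≤ j)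
    (hu : ∀ k, IsUnit (u k))
    (hnum : ∀ k l, IsUnit (∑ a ∈ range j, u l ^ a * u k ^ (j - 1 - a)))
    {W Qp : B[X]} (hW : W * thetaPoly u j + Qp * pPoly u = 1) (i : ℕ) :
    phi u ((j : B[X]) * W * X ^ ((r + 1) * (j - 1)) * X ^ (i * j)) =
      hh (fun k => u k ^ j) i := by
  let ev : PR r →+* B := MvPolynomial.eval₂Hom (Int.castRingHom B) u
  let ev1 : PR r →+* ℤ := MvPolynomial.eval₂Hom (RingHom.id ℤ) fun _ => 1
  let S : Submonoid (PR r) := (IsUnit.submonoid B).comap ev ⊓ nonZeroDivisors (PR r)
  have hmem : ∀ s : PR r, IsUnit (ev s) → ev1 s ≠ 0 → s ∈ S := fun s h h' =>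
    ⟨h, mem_nonZeroDivisors_of_ne_zero fun h0 => h' (by rw [h0, map_zero])⟩
  have hS : S ≤ nonZeroDivisors (PR r) := inf_le_right
  haveI : IsDomain (Localization S) := IsLocalization.isDomain_localization hS
  let φ : Localization S →+* B := IsLocalization.lift (M := S) (g := ev) fun s => s.2.1
  let U : Fin (r + 1) → Localization S := fun k => algebraMap (PR r) (Localization S) (MvPolynomial.X k)
  have hφU : ∀ k, φ (U k) = u k := fun k => by simp [φ, U, IsLocalization.lift_eq, ev]
  have hnumU : ∀ k l, IsUnit (∑ a ∈ range j, U l ^ a * U k ^ (j - 1 - a)) := by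
    intro k l
    have hs : (∑ a ∈ range j, (MvPolynomial.X l : PR r) ^ a * MvPolynomial.X k ^ (j - 1 - a)) ∈ S :=
      hmem _ (by simpa [ev] using hnum k l) (by simp [ev1]; omega)
    have := IsLocalization.map_units (Localization S) (⟨_, hs⟩ : S)
    simpa [U] using this
  obtain ⟨W₀, Q₀, h₀⟩ := exists_inverse hnumU
  let ι := algebraMap (Localization S) (FractionRing (Localization S))
  have hι : Function.Injective ι := IsFractionRing.injective _ _
  have hU : Function.Injective U :=
    (IsLocalization.injective (Localization S) hS).comp MvPolynomial.X_injective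
  have hUj : Function.Injective fun k => U k ^ j := by
    intro a b h
    simp only [U, ← map_pow] at h
    have h2 := IsLocalization.injective (Localization S) hS h
    rw [MvPolynomial.X_pow_eq_monomial, MvPolynomial.X_pow_eq_monomial,
      MvPolynomial.monomial_eq_monomial_iff] at h2
    rcases h2 with ⟨h2, -⟩ | ⟨h2, -⟩
    · rcases (Finsupp.single_eq_single_iff _ _ _ _).1 h2 with ⟨h2, -⟩ | ⟨h2, -⟩
      · exact h2
      · omega
    · exact absurd h2 one_ne_zero
  have hjC : ((j : ℕ) : Localization S) ≠ 0 := by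
    rw [← map_natCast (algebraMap (PR r) (Localization S)),
      map_ne_zero_iff _ (IsLocalization.injective (Localization S) hS)]
    exact Nat.cast_ne_zero.2 (by omega)
  have main : phi U ((j : (Localization S)[X]) * W₀ * X ^ ((r + 1) * (j - 1)) * X ^ (i * j)) =
      hh (fun k => U k ^ j) i := by
    apply hι
    rw [phi_map, hh_map]
    simp only [Polynomial.map_mul, Polynomial.map_natCast, Polynomial.map_pow, map_X, map_pow]
    refine identity_field (u := fun k => ι (U k)) (Qp := Q₀.map ι) ?_ (fun k => ?_) (fun a b h => hU (hι h)) ?_ ?_ i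
    · rw [← map_natCast ι, map_ne_zero_iff _ hι]; exact hjC
    · rw [map_ne_zero_iff _ hι]
      exact fun h => MvPolynomial.X_ne_zero k
        (IsLocalization.injective (Localization S) hS (h.trans (map_zero _).symm))
    · have := hι.comp hUj
      simpa only [Function.comp_def, map_pow] using this
    · have := congrArg (Polynomial.map ι) h₀
      simpa [Polynomial.map_add, Polynomial.map_mul, thetaPoly_map, pPoly_map] using this
  have h₁ := congrArg φ main
  rw [phi_map, hh_map] at h₁
  simp only [Polynomial.map_mul, Polynomial.map_natCast, Polynomial.map_pow, map_X, map_pow, hφU] at h₁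
  have h₂ : W₀.map φ * thetaPoly u j + Q₀.map φ * pPoly u = 1 := by
    have := congrArg (Polynomial.map φ) h₀
    simpa [Polynomial.map_add, Polynomial.map_mul, thetaPoly_map, pPoly_map, hφU] using this
  have hd : W = W₀.map φ + (W * Q₀.map φ - W₀.map φ * Qp) * pPoly u := by
    linear_combination (W₀.map φ) * hW - W * h₂
  rw [← h₁]
  nth_rewrite 1 [hd]
  rw [show (j : B[X]) * (W₀.map φ + (W * Q₀.map φ - W₀.map φ * Qp) * pPoly u) *
      X ^ ((r + 1) * (j - 1)) * X ^ (i * j) =
      (j : B[X]) * W₀.map φ * X ^ ((r + 1) * (j - 1)) * X ^ (i * j) +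
      ((j : B[X]) * (W * Q₀.map φ - W₀.map φ * Qp) * X ^ ((r + 1) * (j - 1)) * X ^ (i * j)) * pPoly u
      by ring, map_add, phi_mul_pPoly, add_zero]

end Groth.L13.ElemExt.RR
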