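/-
Adams–Riemann–Roch for the elementary projection.
-/
import Groth.Agent.L13.ElemExt.Gamma
import Groth.Agent.L13.ElemExt.RR.Alg
import Groth.Agent.L08.Lambda.Pos

set_option autoImplicit false

universe u

namespace Groth.L13.ElemExt.RR

open Finset Groth.L08.Lambda LambdaRing TensorProduct

/-- Bott's polynomial on elementary symmetric functions. -/
theorem aeval_bottPoly {A : Type u} [CommRing A] (j m : ℕ) (v : Fin m → A) :
    MvPolynomial.aeval (fun i : Fin m => (univ.val.map v).esymm (i.1 + 1)) (KRR.bottPoly j m) =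
      ∏ l, ∑ k ∈ range j, v l ^ k := by
  have e1 : (MvPolynomial.esymmAlgHom (Fin m) ℤ m (KRR.bottPoly j m)).val = KRR.bottSym j m :=
    congrArg Subtype.val
      ((MvPolynomial.esymmAlgEquiv (Fin m) ℤ (Fintype.card_fin m)).apply_symm_apply
        ⟨KRR.bottSym j m, KRR.bottSym_isSymmetric j m⟩)
  have e2 : (fun i : Fin m => (univ.val.map v).esymm (i.1 + 1)) =
      fun i : Fin m => MvPolynomial.aeval v (MvPolynomial.esymm (Fin m) ℤ (i + 1)) := by
    funext i; rw [MvPolynomial.aeval_esymm_eq_multiset_esymm]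
  rw [e2, ← MvPolynomial.comp_aeval_apply, ← MvPolynomial.esymmAlgHom_apply, e1, KRR.bottSym, map_prod]
  simp

theorem esymm_map_mul {A : Type u} [CommRing A] (c : A) (s : Multiset A) (n : ℕ) :
    (s.map fun a => c * a).esymm n = c ^ n * s.esymm n := by
  simp only [Multiset.esymm, Multiset.powersetCard_map, Multiset.map_map, ← Multiset.sum_map_mul_left]
  refine congrArg _ (Multiset.map_congr rfl fun t ht => ?_)
  change (t.map fun a => c * a).prod = _
  rw [Multiset.prod_map_mul (f := fun _ => c) (g := fun a => a), Multiset.map_const', Multiset.prod_replicate,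
    Multiset.map_id', (Multiset.mem_powersetCard.1 ht).2]

theorem map_esymm {A B : Type*} [CommRing A] [CommRing B] (φ : A →+* B) (s : Multiset A) (n : ℕ) :
    φ (s.esymm n) = (s.map φ).esymm n := by
  simp only [Multiset.esymm, map_multiset_sum, Multiset.powersetCard_map, Multiset.map_map]
  exact congrArg _ (Multiset.map_congr rfl fun t _ => map_multiset_prod φ t)

theorem esymm_ones (m n : ℕ) :
    ((univ : Finset (Fin m)).val.map fun _ => (1 : ℤ)).esymm n = m.choose n := by
  rw [Multiset.esymm, Multiset.powersetCard_map, Multiset.map_map]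
  simp [Function.comp_def]

/-- The functional on `B[X]/∏(X - u_l)`. -/
noncomputable def fPhi {B : Type*} [CommRing B] {m : ℕ} (u : Fin m → B) :
    AdjoinRoot (pPoly u) →ₗ[B] B :=
  (phi u).comp (AdjoinRoot.modByMonicHom (monic_pPoly u))

theorem fPhi_mk {B : Type*} [CommRing B] {r : ℕ} (u : Fin (r + 1) → B) (q : Polynomial B) :
    fPhi u (AdjoinRoot.mk _ q) = phi u q := by
  have h := congrArg (phi u) (Polynomial.modByMonic_add_div q (pPoly u))
  rw [map_add, mul_comm (pPoly u), phi_mul_pPoly, add_zero] at h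
  rw [fPhi, LinearMap.comp_apply, AdjoinRoot.modByMonicHom_mk, h]

theorem fPhi_of_mul_root_pow {B : Type*} [CommRing B] {r : ℕ} (u : Fin (r + 1) → B) (a : B) (n : ℕ) :
    fPhi u (AdjoinRoot.of _ a * AdjoinRoot.root _ ^ n) = a * hh u n := by
  rw [show AdjoinRoot.of (pPoly u) a * AdjoinRoot.root _ ^ n =
      AdjoinRoot.mk _ (Polynomial.monomial n a) by
    rw [← Polynomial.C_mul_X_pow_eq_monomial, map_mul, map_pow, AdjoinRoot.mk_X, AdjoinRoot.mk_C],
    fPhi_mk, phi_monomial]

section Setup

variable {K : Type u} [CommRing K] [LambdaOps K] (P : PosStructure K) (hK : HasSplitting K P) {e : K}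
  (he : e ∈ P.pos) {r : ℕ} (hr : P.aug e = r + 1)
  [LambdaOps (AdjoinRoot (KRR.extPoly P e))] (Pe : PosStructure (AdjoinRoot (KRR.extPoly P e)))
  (hext : IsExtension P Pe (AdjoinRoot.of (KRR.extPoly P e)))
  (hsplit : HasSplitting _ Pe)
  (hline : Pe.IsLine (AdjoinRoot.root (KRR.extPoly P e)))
  (linv : AdjoinRoot (KRR.extPoly P e)) (hlinv : linv * AdjoinRoot.root (KRR.extPoly P e) = 1)

include hline hlinv in
theorem aug_linv : Pe.aug linv = 1 := by
  have := congrArg Pe.aug hlinv
  rwa [map_mul, hline.2, mul_one, map_one] at this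

include hsplit hline hlinv in
theorem lam_linv_mul (x : AdjoinRoot (KRR.extPoly P e)) (i : ℕ) :
    LambdaOps.lam i (x * linv) = LambdaOps.lam i x * linv ^ i := by
  have hsp := isSpecial_of_splitting hsplit
  set ℓ := AdjoinRoot.root (KRR.extPoly P e)
  have hl : ∀ n, LambdaOps.lam n ℓ = lineSeq ℓ n := fun n => by
    rcases n with - | - | n
    · simp [LambdaOps.lam_zero, lineSeq]
    · simp [LambdaOps.lam_one, lineSeq]
    · simp [lineSeq, L22.Lambda.lam_eq_zero_of_isLine Pe hline (i := n + 2) (by omega), ℓ]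
  have hi : ∀ n, LambdaOps.lam n linv = lineSeq linv n := fun n => by
    rcases n with - | - | n
    · simp [LambdaOps.lam_zero, lineSeq]
    · simp [LambdaOps.lam_one, lineSeq]
    · have h := lam_mul_eq_mulSeq hsp linv ℓ (n + 2)
      rw [hlinv, mulSeq_congr (a' := fun k => LambdaOps.lam k linv) (fun _ => rfl) hl,
        mulSeq_lineSeq isMulPoly_mulPoly (a := fun k => LambdaOps.lam k linv) (LambdaOps.lam_zero _),
        L22.Lambda.lam_eq_zero_of_isLine Pe (L22.Lambda.isLine_one Pe) (by omega)] at h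
      have hu : IsUnit (ℓ ^ (n + 2)) := (IsUnit.of_mul_eq_one _ (mul_comm linv ℓ ▸ hlinv)).pow _
      rw [hu.mul_right_eq_zero.1 h.symm]
      simp [lineSeq]
  rw [lam_mul_eq_mulSeq hsp, mulSeq_congr (a' := fun k => LambdaOps.lam k x) (fun _ => rfl) hi,
    mulSeq_lineSeq isMulPoly_mulPoly (a := fun k => LambdaOps.lam k x) (LambdaOps.lam_zero _), mul_comm]

include hr hext hline hlinv in
theorem toNat_aug_q : (Pe.aug (AdjoinRoot.of (KRR.extPoly P e) e * linv)).toNat = r + 1 := by
  rw [map_mul, aug_linv P Pe hline linv hlinv, mul_one, hext.aug_comp, hr]; omega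

include hK he hr hext hsplit hline hlinv in
theorem aug_bott (j : ℕ) :
    Pe.aug (KRR.bott Pe j (AdjoinRoot.of (KRR.extPoly P e) e * linv)) = (j : ℤ) ^ (r + 1) := by
  rw [KRR.bott, toNat_aug_q P hr Pe hext hline linv hlinv]
  have h := MvPolynomial.comp_aeval_apply (R := ℤ)
    (f := fun i : Fin (r + 1) => LambdaOps.lam (i.1 + 1) (AdjoinRoot.of (KRR.extPoly P e) e * linv))
    Pe.aug.toIntAlgHom (KRR.bottPoly j (r + 1))
  refine Eq.trans h ?_
  have hv : (fun i : Fin (r + 1) => Pe.aug.toIntAlgHom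
      (LambdaOps.lam (i.1 + 1) (AdjoinRoot.of (KRR.extPoly P e) e * linv))) =
      fun i => ((univ : Finset (Fin (r + 1))).val.map fun _ => (1 : ℤ)).esymm (i.1 + 1) := by
    funext i
    change Pe.aug _ = _
    rw [lam_linv_mul P Pe hsplit hline linv hlinv, map_mul, map_pow, aug_linv P Pe hline linv hlinv, one_pow,
      mul_one, ← hext.isLambdaHom, hext.aug_comp, L22.Lambda.aug_lam P hK he (m := r + 1) (by exact_mod_cast hr),
      esymm_ones]
  rw [hv, aeval_bottPoly]
  simp

include he hr hext hsplit hline in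
theorem isNilpotent_of_aug_eq_zero {N : ℕ} (hN : gammaFiltration Pe N = ⊥)
    {z : AdjoinRoot (KRR.extPoly P e)} (hz : Pe.aug z = 0) : IsNilpotent z := by
  have h1 : z ∈ gammaFiltration Pe 1 := by
    simpa [Groth.L08.Lambda.gamma_one] using prod_mem_gammaFiltration Pe [(1, z)]
      (fun p hp => by simp only [List.mem_singleton] at hp; subst hp; exact hz) 1 (by simp)
  have hp : ∀ n, z ^ n ∈ gammaFiltration Pe n := fun n => by
    induction n with
    | zero => simp [gammaFiltration]
    | succ n ih => rw [pow_succ]; exact mul_mem_gammaFiltration Pe ih h1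
  exact ⟨N, by simpa [hN] using hp N⟩

variable (j : ℕ)

variable {S : Type*} [CommRing S] (hjS : IsUnit (j : S))

include hjS in
theorem isUnit_natCast_tensor {A : Type*} [CommRing A] [Algebra S A] : IsUnit (j : A) := by
  simpa using hjS.map (algebraMap S A)

include hK he hr hext hsplit hline hlinv hjS in
theorem exists_inverse_bott {N : ℕ} (hN : gammaFiltration Pe N = ⊥) :
    ∃ w : S ⊗[ℤ] AdjoinRoot (KRR.extPoly P e),
      w * ((1 : S) ⊗ₜ[ℤ] KRR.bott Pe j (AdjoinRoot.of (KRR.extPoly P e) e * linv)) = 1 := by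
  set θ := KRR.bott Pe j (AdjoinRoot.of (KRR.extPoly P e) e * linv)
  have hn : IsNilpotent (θ - ((j ^ (r + 1) : ℕ) : AdjoinRoot (KRR.extPoly P e))) :=
    isNilpotent_of_aug_eq_zero P he hr Pe hext hsplit hline hN
      (by rw [map_sub, aug_bott P hK he hr Pe hext hsplit hline linv hlinv, map_natCast]; simp)
  let g : AdjoinRoot (KRR.extPoly P e) →+* S ⊗[ℤ] AdjoinRoot (KRR.extPoly P e) :=
    (Algebra.TensorProduct.includeRight (R := ℤ) (A := S) (B := AdjoinRoot (KRR.extPoly P e))).toRingHom
  have hu : IsUnit (g θ) := by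
    have h := (hn.map g).isUnit_add_left_of_commute ((isUnit_natCast_tensor j hjS).pow (r + 1))
      (Commute.all _ _)
    rw [map_sub, map_natCast, Nat.cast_pow, add_sub_cancel] at h
    exact h
  obtain ⟨w, hw⟩ := isUnit_iff_exists_inv'.1 hu
  exact ⟨w, hw⟩

include he hr in
theorem fPhi_compat (f : AdjoinRoot (KRR.extPoly P e) →ₗ[K] K)
    (hf : ∀ i : ℕ, i ≤ r → f (AdjoinRoot.root (KRR.extPoly P e) ^ i) = KRR.sigma i e)
    {B : Type*} [CommRing B] (u : Fin (r + 1) → B) (g0 : K →+* B)
    (g1 : AdjoinRoot (KRR.extPoly P e) →+* AdjoinRoot (pPoly u))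
    (h0 : ∀ a, g1 (AdjoinRoot.of _ a) = AdjoinRoot.of _ (g0 a))
    (h1 : g1 (AdjoinRoot.root _) = AdjoinRoot.root _) (hσ : ∀ n, g0 (KRR.sigma n e) = hh u n)
    (y : AdjoinRoot (KRR.extPoly P e)) : fPhi u (g1 y) = g0 (f y) := by
  obtain ⟨q, rfl⟩ := AdjoinRoot.mk_surjective y
  induction q using Polynomial.induction_on' with
  | add a b ha hb => simp only [map_add, ha, hb]
  | monomial n a =>
    rw [← Polynomial.C_mul_X_pow_eq_monomial, map_mul, map_pow, AdjoinRoot.mk_X, AdjoinRoot.mk_C,
      map_mul, map_pow, h0, h1, fPhi_of_mul_root_pow, L22.Lambda.f_of_mul,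
      L22.Lambda.f_root_pow P he hr f hf, map_mul, hσ]

section Split

variable {L : Type u} [CommRing L] [LambdaOps L] (Q : PosStructure L) (g : K →+* L)
  (hg : IsExtension P Q g) (v : Fin (r + 1) → L) (hv : ∀ i, g (LambdaOps.lam i e) = (univ.val.map v).esymm i)

include hr hv in
theorem extPoly_map : (KRR.extPoly P e).map g = pPoly v := by
  rw [pPoly, Finset.prod, show univ.val.map (fun l => Polynomial.X - Polynomial.C (v l)) =
      (univ.val.map v).map fun t => Polynomial.X - Polynomial.C t by rw [Multiset.map_map]; rfl,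
    Multiset.prod_X_sub_X_eq_sum_esymm, Multiset.card_map, Finset.card_val, card_univ, Fintype.card_fin,
    KRR.extPoly, L22.Lambda.toNat_aug P hr, Polynomial.map_sum]
  refine sum_congr rfl fun i _ => ?_
  simp [hv i, mul_assoc]

include hr hv in
theorem eval₂_extPoly (k : Fin (r + 1)) : (KRR.extPoly P e).eval₂ g (v k) = 0 := by
  rw [Polynomial.eval₂_eq_eval_map, extPoly_map P hr g v hv, eval_pPoly]

include hv in
theorem map_sigma (n : ℕ) : g (KRR.sigma n e) = hh v n := by
  have h1 : PowerSeries.map g (PowerSeries.rescale (-1 : K) (lamSeries e)) =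
      ∏ l, (1 - PowerSeries.C (v l) * PowerSeries.X) := by
    have e1 : ∏ l, (1 - PowerSeries.C (v l) * PowerSeries.X) =
        PowerSeries.rescale (-1 : L) (((univ.val.map v).map fun u => 1 + PowerSeries.C u * PowerSeries.X).prod) := by
      rw [map_multiset_prod, Multiset.map_map, Multiset.map_map, Finset.prod]
      refine congrArg _ (Multiset.map_congr rfl fun l _ => ?_)
      ext k
      rw [Function.comp_apply, Function.comp_apply, PowerSeries.coeff_rescale,
        L22.Lambda.coeff_one_add_C_mul_X, map_sub, PowerSeries.coeff_C_mul, PowerSeries.coeff_one,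
        PowerSeries.coeff_X]
      rcases k with - | - | k <;> simp
    rw [e1]
    ext k
    rw [PowerSeries.coeff_map, PowerSeries.coeff_rescale, PowerSeries.coeff_rescale,
      L22.Lambda.coeff_lamSeries, L22.Lambda.coeff_prod_one_add, map_mul, map_pow, map_neg, map_one, hv]
  have h2 := congrArg (PowerSeries.map g) (L22.Lambda.rescale_mul_sigmaSeries e)
  rw [map_mul, map_one, h1] at h2
  have h3 : (∏ l, (1 - PowerSeries.C (v l) * PowerSeries.X)) * ∏ l, geom (v l) = 1 := by
    rw [← prod_mul_distrib]; exact prod_eq_one fun l _ => one_sub_mul_geom (v l)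
  rw [KRR.sigma, ← PowerSeries.coeff_map, hh]
  congr 1
  linear_combination (∏ l, geom (v l)) * h2 - PowerSeries.map g (KRR.sigmaSeries e) * h3

include he hr hext hsplit hline hv in
theorem isNilpotent_root_image {N : ℕ} (hN : gammaFiltration Pe N = ⊥) (k : Fin (r + 1)) :
    IsNilpotent (v k - 1) := by
  have h : IsNilpotent (AdjoinRoot.root (KRR.extPoly P e) - 1) :=
    isNilpotent_of_aug_eq_zero P he hr Pe hext hsplit hline hN (by simp [hline.2])
  have h' := h.map (AdjoinRoot.lift g (v k) (eval₂_extPoly P hr g v hv k))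
  simpa using h'

theorem isUnit_num {B : Type*} [CommRing B] {a b : B} (ha : IsNilpotent (a - 1)) (hb : IsNilpotent (b - 1))
    {n : ℕ} (hn : IsUnit (n : B)) : IsUnit (∑ i ∈ range n, a ^ i * b ^ (n - 1 - i)) := by
  let π := Ideal.Quotient.mk (nilradical B)
  have ha' : π a = 1 := by
    rw [← map_one π, Ideal.Quotient.eq]; exact mem_nilradical.2 ha
  have hb' : π b = 1 := by
    rw [← map_one π, Ideal.Quotient.eq]; exact mem_nilradical.2 hb
  have h : π (∑ i ∈ range n, a ^ i * b ^ (n - 1 - i)) = π n := by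
    simp [ha', hb']
  have h2 : IsNilpotent (∑ i ∈ range n, a ^ i * b ^ (n - 1 - i) - n) :=
    mem_nilradical.1 (Ideal.Quotient.eq.1 h)
  simpa using h2.isUnit_add_left_of_commute hn (Commute.all _ _)

end Split

include hK he hr hext hsplit hline hlinv hjS in
theorem adams_rr [Module.Flat ℤ S] (f : AdjoinRoot (KRR.extPoly P e) →ₗ[K] K)
    (hf : ∀ i : ℕ, i ≤ r → f (AdjoinRoot.root (KRR.extPoly P e) ^ i) = KRR.sigma i e)
    (hj : 1 ≤ j) {N : ℕ} (hN : gammaFiltration Pe N = ⊥)
    (w : S ⊗[ℤ] AdjoinRoot (KRR.extPoly P e))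
    (hw : w * ((1 : S) ⊗ₜ[ℤ] KRR.bott Pe j (AdjoinRoot.of (KRR.extPoly P e) e * linv)) = 1)
    (x : AdjoinRoot (KRR.extPoly P e)) :
    (1 : S) ⊗ₜ[ℤ] adams P j (f x) =
      LinearMap.lTensor S f.toAddMonoidHom.toIntLinearMap
        ((j : S ⊗[ℤ] AdjoinRoot (KRR.extPoly P e)) * w * ((1 : S) ⊗ₜ[ℤ] adams Pe j x)) := by
  obtain ⟨L, _, _, Q, g, s, hg, hLs, hs, -, hcard, hlam⟩ := L22.Lambda.exists_splitting P hK he
  have hm : Multiset.card s = r + 1 := by rw [hr] at hcard; omega
  obtain ⟨v, hv⟩ : ∃ v : Fin (r + 1) → L, univ.val.map v = s :=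
    ⟨fun i => s.toList.get (i.cast (by rw [Multiset.length_toList, hm])), by
      rw [Fin.univ_val_map]; simp only [List.get_eq_getElem, Fin.val_cast]
      conv_rhs => rw [← Multiset.coe_toList s]
      exact congrArg _ (List.ext_getElem (by simp [hm]) fun i h1 h2 => by rw [List.getElem_ofFn])⟩
  have hvline : ∀ k, Q.IsLine (v k) := fun k =>
    hs _ (hv ▸ Multiset.mem_map.2 ⟨k, mem_univ k, rfl⟩)
  have hlam' : ∀ i, g (LambdaOps.lam i e) = (univ.val.map v).esymm i := fun i => by rw [hv]; exact hlam i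
  -- the base ring
  let ι : L →+* S ⊗[ℤ] L := (Algebra.TensorProduct.includeRight (R := ℤ) (A := S) (B := L)).toRingHom
  let u : Fin (r + 1) → S ⊗[ℤ] L := fun k => ι (v k)
  let p := pPoly u
  let gB : K →+* AdjoinRoot p := (AdjoinRoot.of p).comp (ι.comp g)
  have hgB : (KRR.extPoly P e).eval₂ gB (AdjoinRoot.root p) = 0 := by
    have : (KRR.extPoly P e).map (ι.comp g) = p := by
      rw [← Polynomial.map_map, extPoly_map P hr g v hlam', pPoly_map]
    rw [← Polynomial.eval₂_map, this, AdjoinRoot.eval₂_root]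
  let g' : AdjoinRoot (KRR.extPoly P e) →+* AdjoinRoot p := AdjoinRoot.lift gB (AdjoinRoot.root p) hgB
  let φ : S ⊗[ℤ] AdjoinRoot (KRR.extPoly P e) →ₐ[S] AdjoinRoot p :=
    Algebra.TensorProduct.lift (Algebra.ofId S (AdjoinRoot p)) g'.toIntAlgHom fun _ _ => Commute.all _ _
  let fB : AdjoinRoot p →ₗ[S ⊗[ℤ] L] S ⊗[ℤ] L := fPhi u
  have hfB : ∀ q, fB (AdjoinRoot.mk p q) = phi u q := fPhi_mk u
  let gR : S ⊗[ℤ] K →ₗ[ℤ] S ⊗[ℤ] L := LinearMap.lTensor S g.toAddMonoidHom.toIntLinearMap
  have hgR : Function.Injective gR :=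
    Module.Flat.lTensor_preserves_injective_linearMap _ hg.injective
  have hg'of : ∀ a, g' (AdjoinRoot.of _ a) = AdjoinRoot.of p (ι (g a)) := fun a => AdjoinRoot.lift_of hgB
  have hg'root : g' (AdjoinRoot.root _) = AdjoinRoot.root p := AdjoinRoot.lift_root hgB
  have hcompat1 : ∀ y, fB (g' y) = ι (g (f y)) :=
    fPhi_compat P he hr f hf u (ι.comp g) g' hg'of hg'root fun n => by
      rw [RingHom.comp_apply, map_sigma g v hlam', hh_map]
  have hφtmul : ∀ (c : S) y, φ (c ⊗ₜ y) = algebraMap (S ⊗[ℤ] L) (AdjoinRoot p) (c ⊗ₜ 1) * g' y := fun c y => by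
    simp only [φ, Algebra.TensorProduct.lift_tmul, Algebra.ofId_apply]
    rfl
  have hcompat : ∀ z, fB (φ z) = gR (LinearMap.lTensor S f.toAddMonoidHom.toIntLinearMap z) := fun z => by
    induction z using TensorProduct.induction_on with
    | zero => simp
    | add a b ha hb => simp only [map_add, ha, hb]
    | tmul c y =>
      rw [hφtmul, ← Algebra.smul_def, map_smul, hcompat1, smul_eq_mul]
      simp [gR, ι, Algebra.TensorProduct.tmul_mul_tmul]
      rfl
  -- units
  have hjB : IsUnit (j : S ⊗[ℤ] L) := isUnit_natCast_tensor j hjS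
  have hnil : ∀ k, IsNilpotent (u k - 1) := fun k => by
    have h := (isNilpotent_root_image P he hr Pe hext hsplit hline g v hlam' hN k).map ι
    simpa [u] using h
  have hu : ∀ k, IsUnit (u k) := fun k => by simpa using (hnil k).isUnit_add_one
  have hnum : ∀ k l, IsUnit (∑ a ∈ range j, u l ^ a * u k ^ (j - 1 - a)) := fun k l =>
    isUnit_num (hnil l) (hnil k) hjB
  obtain ⟨W, Qp, hW⟩ := exists_inverse (m := r + 1) hnum
  set lam0 := g' linv with hlam0
  have hlam0 : lam0 * AdjoinRoot.root p = 1 := by rw [hlam0, ← hg'root, ← map_mul, hlinv, map_one]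
  -- the image of the Bott class
  have hθ : φ ((1 : S) ⊗ₜ[ℤ] KRR.bott Pe j (AdjoinRoot.of (KRR.extPoly P e) e * linv)) =
      lam0 ^ ((r + 1) * (j - 1)) * AdjoinRoot.mk p (thetaPoly u j) := by
    rw [hφtmul, ← Algebra.TensorProduct.one_def, map_one, one_mul, KRR.bott, toNat_aug_q P hr Pe hext hline linv hlinv]
    have h := MvPolynomial.comp_aeval_apply (R := ℤ)
      (f := fun i : Fin (r + 1) => LambdaOps.lam (i.1 + 1) (AdjoinRoot.of (KRR.extPoly P e) e * linv))
      g'.toIntAlgHom (KRR.bottPoly j (r + 1))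
    refine Eq.trans h ?_
    let z : Fin (r + 1) → AdjoinRoot p := fun k => lam0 * AdjoinRoot.of p (u k)
    have hz : (fun i : Fin (r + 1) => g'.toIntAlgHom
        (LambdaOps.lam (i.1 + 1) (AdjoinRoot.of (KRR.extPoly P e) e * linv))) =
        fun i => (univ.val.map z).esymm (i.1 + 1) := by
      funext i
      change g' _ = _
      have hzmap : univ.val.map z = ((univ.val.map v).map ((AdjoinRoot.of p).comp ι)).map fun a => lam0 * a := by
        rw [Multiset.map_map, Multiset.map_map]; rfl
      rw [lam_linv_mul P Pe hsplit hline linv hlinv, map_mul, map_pow, ← hext.isLambdaHom, hg'of, hlam',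
        hzmap, esymm_map_mul, ← map_esymm, mul_comm]
      rfl
    rw [hz, aeval_bottPoly, thetaPoly, map_prod, pow_mul',
      show (lam0 ^ (j - 1)) ^ (r + 1) = ∏ _l : Fin (r + 1), lam0 ^ (j - 1) by simp, ← prod_mul_distrib]
    refine prod_congr rfl fun l _ => ?_
    rw [map_sum, mul_sum]
    refine sum_congr rfl fun a ha => ?_
    have ha' := mem_range.1 ha
    rw [map_mul, map_pow, map_pow, AdjoinRoot.mk_C, AdjoinRoot.mk_X,
      show j - 1 = a + (j - 1 - a) by omega, Nat.add_sub_cancel_left]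
    simp only [z, pow_add, mul_pow]
    have := congrArg (fun t => t ^ (j - 1 - a)) hlam0
    simp only [mul_pow, one_pow] at this
    linear_combination -(lam0 ^ a * (AdjoinRoot.of p (u l)) ^ a) * this
  have hφw : φ w = AdjoinRoot.root p ^ ((r + 1) * (j - 1)) * AdjoinRoot.mk p W := by
    have h1 := congrArg φ hw
    rw [map_mul, map_one, hθ] at h1
    have h2 := congrArg (AdjoinRoot.mk p) hW
    rw [map_add, map_mul, map_mul, AdjoinRoot.mk_self, mul_zero, add_zero, map_one] at h2
    have h3 := congrArg (fun t => t ^ ((r + 1) * (j - 1))) hlam0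
    simp only [mul_pow, one_pow] at h3
    linear_combination (AdjoinRoot.root p ^ ((r + 1) * (j - 1)) * AdjoinRoot.mk p W) * h1 -
      φ w * h2 - (φ w * AdjoinRoot.mk p W * AdjoinRoot.mk p (thetaPoly u j)) * h3
  -- the identity
  obtain ⟨q, rfl⟩ := AdjoinRoot.mk_surjective x
  induction q using Polynomial.induction_on' with
  | add a b ha hb =>
    simp only [map_add, L22.Lambda.adams_add, TensorProduct.tmul_add, mul_add, ha, hb]
  | monomial n a =>
    apply hgR
    rw [← Polynomial.C_mul_X_pow_eq_monomial, map_mul, map_pow, AdjoinRoot.mk_X, AdjoinRoot.mk_C,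
      L22.Lambda.f_of_mul, L22.Lambda.f_root_pow P he hr f hf, adams_mul P hK, adams_mul Pe hsplit,
      ← L22.Lambda.map_adams hext, L22.Lambda.adams_of_isLine Pe (L22.Lambda.isLine_pow Pe hline n),
      ← hcompat, map_mul φ, map_mul φ, map_natCast φ, hφw, hφtmul, ← Algebra.TensorProduct.one_def, map_one, one_mul,
      map_mul g', map_pow g', map_pow g', hg'of, hg'root]
    have e1 : gR ((1 : S) ⊗ₜ[ℤ] (adams P j a * adams P j (KRR.sigma n e))) =
        ι (g (adams P j a)) * hh (fun k => u k ^ j) n := by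
      let ψ : L →+* L :=
        { toFun := adams Q j
          map_one' := adams_one Q j
          map_mul' := fun x y => adams_mul Q hLs x y j
          map_zero' := adams_zero_arg Q j
          map_add' := fun x y => L22.Lambda.adams_add Q j x y }
      have : g (adams P j (KRR.sigma n e)) = hh (fun k => v k ^ j) n := by
        rw [L22.Lambda.map_adams hg, map_sigma g v hlam']
        change ψ _ = _
        rw [hh_map]
        congr 1
        funext k
        exact L22.Lambda.adams_of_isLine Q (hvline k) j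
      change ι (g (adams P j a * adams P j (KRR.sigma n e))) = _
      rw [map_mul, this, map_mul, hh_map]
      simp [u]
    rw [e1, show (j : AdjoinRoot p) * (AdjoinRoot.root p ^ ((r + 1) * (j - 1)) * AdjoinRoot.mk p W) *
        (AdjoinRoot.of p (ι (g (adams P j a))) * (AdjoinRoot.root p ^ n) ^ j) =
        AdjoinRoot.mk p (ι (g (adams P j a)) •
          ((j : Polynomial _) * W * Polynomial.X ^ ((r + 1) * (j - 1)) * Polynomial.X ^ (n * j))) by
      rw [Polynomial.smul_eq_C_mul, map_mul, map_mul, map_mul, map_mul, map_natCast, map_pow, map_pow,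
        AdjoinRoot.mk_X, AdjoinRoot.mk_C, pow_mul]
      ring,
      hfB, map_smul, identity hjB hj hu hnum hW n, smul_eq_mul]

end Setup

end Groth.L13.ElemExt.RR
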